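import Mathlib.RingTheory.Smooth.StandardSmoothOfFree
import Mathlib.RingTheory.Smooth.StandardSmoothCotangent
import Mathlib.RingTheory.Extension.Presentation.Submersive
import Mathlib.RingTheory.TensorProduct.MvPolynomial

/-!
# Étale algebras lift along surjections
-/

universe u

namespace GrothLib.EtaleLiftH2

open TensorProduct MvPolynomial

/-- An étale `R/I`-algebra is the base change of an étale `R`-algebra. -/
theorem exists_etale_lift (R : Type u) [CommRing R] (I : Ideal R) (Sb : Type u)
    [CommRing Sb] [Algebra (R ⧸ I) Sb] [Algebra.Etale (R ⧸ I) Sb] :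
    ∃ (S : Type u) (_ : CommRing S) (_ : Algebra R S), Algebra.Etale R S ∧
      Nonempty (((R ⧸ I) ⊗[R] S) ≃ₐ[R ⧸ I] Sb) := by
  classical
  obtain ⟨ι, σ, _, _, P, hP⟩ :=
    (Algebra.Etale.iff_isStandardSmoothOfRelativeDimension_zero.1 ‹_› :
      Algebra.IsStandardSmoothOfRelativeDimension 0 (R ⧸ I) Sb).out
  cases nonempty_fintype σ
  cases nonempty_fintype ι
  letI : Algebra R Sb := ((algebraMap (R ⧸ I) Sb).comp (algebraMap R (R ⧸ I))).toAlgebra
  haveI : IsScalarTower R (R ⧸ I) Sb := IsScalarTower.of_algebraMap_eq fun _ => rfl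
  choose v hv using fun r => MvPolynomial.map_surjective (algebraMap R (R ⧸ I))
    Ideal.Quotient.mk_surjective (P.relation r)
  let A := MvPolynomial ι R ⧸ Ideal.span (Set.range v)
  let P₀ : Algebra.PreSubmersivePresentation R A ι σ :=
    Algebra.PreSubmersivePresentation.naive (v := v) P.map P.map_inj
  let J : A := P₀.jacobian
  let S := Localization.Away J
  let Q : Algebra.PreSubmersivePresentation A S Unit Unit :=
    Algebra.PreSubmersivePresentation.localizationAway S J
  have hunit : IsUnit (Q.comp P₀).jacobian := by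
    rw [Algebra.PreSubmersivePresentation.comp_jacobian_eq_jacobian_smul_jacobian, Algebra.smul_def,
      IsUnit.mul_iff, Algebra.PreSubmersivePresentation.localizationAway_jacobian]
    exact ⟨IsLocalization.Away.algebraMap_isUnit J, IsLocalization.Away.algebraMap_isUnit J⟩
  let P' : Algebra.SubmersivePresentation R S (Unit ⊕ ι) (Unit ⊕ σ) :=
    { Q.comp P₀ with jacobian_isUnit := hunit }
  haveI : Algebra.IsStandardSmoothOfRelativeDimension 0 R S := by
    refine P'.isStandardSmoothOfRelativeDimension ?_
    simp only [Algebra.Presentation.dimension, Nat.card_sum] at hP ⊢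
    omega
  -- the map to `Sb`
  let α : MvPolynomial ι R →ₐ[R] Sb := aeval P.val
  have hα : ∀ q, α q = aeval P.val (MvPolynomial.map (algebraMap R (R ⧸ I)) q) := fun q =>
    (aeval_map_algebraMap (R ⧸ I) P.val q).symm
  have hker : ∀ q ∈ Ideal.span (Set.range v), α q = 0 := fun q hq => by
    refine (Ideal.span_le (I := RingHom.ker α.toRingHom)).2 ?_ hq
    rintro _ ⟨r, rfl⟩
    show α (v r) = 0
    rw [hα, hv]
    exact P.aeval_val_relation r
  let β : A →ₐ[R] Sb := Ideal.Quotient.liftₐ _ α hker
  have hJ : IsUnit (β J) := by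
    have : β J = P.jacobian := by
      rw [show J = algebraMap P₀.Ring A P₀.jacobiMatrix.det from
          Algebra.PreSubmersivePresentation.jacobian_eq_jacobiMatrix_det _,
        Algebra.PreSubmersivePresentation.jacobian_eq_jacobiMatrix_det]
      rw [Algebra.Generators.algebraMap_apply, Algebra.Generators.algebraMap_apply]
      rw [show β (aeval P₀.val P₀.jacobiMatrix.det) = α P₀.jacobiMatrix.det from ?_, hα,
        RingHom.map_det]
      · congr 2
        refine Matrix.ext fun i j => ?_
        rw [RingHom.mapMatrix_apply, Matrix.map_apply,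
          Algebra.PreSubmersivePresentation.jacobiMatrix_naive,
          Algebra.PreSubmersivePresentation.jacobiMatrix_apply, ← hv j, pderiv_map]
      · rw [← AlgHom.comp_apply]
        congr 1
        exact MvPolynomial.algHom_ext fun i => by
          rw [AlgHom.comp_apply, aeval_X]
          rfl
    rw [this]
    exact P.jacobian_isUnit
  let γ : S →ₐ[R] Sb := IsLocalization.Away.liftAlgHom J (f := β) hJ
  let f : (R ⧸ I) ⊗[R] S →ₐ[R ⧸ I] Sb :=
    Algebra.TensorProduct.lift (Algebra.ofId _ _) γ fun _ _ => Commute.all _ _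
  -- the inverse
  let xs : ι → (R ⧸ I) ⊗[R] S := fun i =>
    1 ⊗ₜ algebraMap A S (Ideal.Quotient.mk _ (X i))
  let ε : MvPolynomial ι (R ⧸ I) →ₐ[R ⧸ I] (R ⧸ I) ⊗[R] S := aeval xs
  have hεq : ∀ q : MvPolynomial ι R, ε (MvPolynomial.map (algebraMap R (R ⧸ I)) q) =
      1 ⊗ₜ algebraMap A S (Ideal.Quotient.mk _ q) := by
    intro q
    induction q using MvPolynomial.induction_on with
    | C a =>
      rw [map_C, ← MvPolynomial.algebraMap_eq, AlgHom.commutes]
      show algebraMap R (R ⧸ I) a ⊗ₜ[R] (1 : S) = 1 ⊗ₜ[R] algebraMap A S (algebraMap R A a)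
      rw [Algebra.algebraMap_eq_smul_one, smul_tmul, ← Algebra.algebraMap_eq_smul_one,
        ← IsScalarTower.algebraMap_apply]
    | add q r hq hr => simp only [map_add, hq, hr, tmul_add]
    | mul_X q i hq =>
      simp only [map_mul, map_X, hq]
      rw [show ε (X i) = xs i from aeval_X _ i]
      simp only [xs, Algebra.TensorProduct.tmul_mul_tmul, mul_one]
  let π : MvPolynomial ι (R ⧸ I) →ₐ[R ⧸ I] Sb := aeval P.val
  have hπ : Function.Surjective π := P.aeval_val_surjective
  have hεker : RingHom.ker π ≤ RingHom.ker ε := by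
    rw [show RingHom.ker π = Ideal.span (Set.range P.relation) from
      (P.span_range_relation_eq_ker.trans (Algebra.Generators.ker_eq_ker_aeval_val _)).symm,
      Ideal.span_le]
    rintro _ ⟨r, rfl⟩
    show ε (P.relation r) = 0
    rw [← hv, hεq, Ideal.Quotient.eq_zero_iff_mem.2 (Ideal.subset_span (Set.mem_range_self (f := v) r)), map_zero,
      tmul_zero]
  let g : Sb →ₐ[R ⧸ I] (R ⧸ I) ⊗[R] S :=
    (Ideal.Quotient.liftₐ (RingHom.ker π) ε fun a ha => hεker ha).comp
      (Ideal.quotientKerAlgEquivOfSurjective hπ).symm.toAlgHom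
  have hgX : ∀ i, g (P.val i) = xs i := fun i => by
    have : (Ideal.quotientKerAlgEquivOfSurjective hπ).symm (P.val i) =
        Ideal.Quotient.mk _ (X i) := by
      rw [AlgEquiv.symm_apply_eq]
      exact (aeval_X P.val i).symm
    show Ideal.Quotient.liftₐ _ ε (fun a ha => hεker ha)
      ((Ideal.quotientKerAlgEquivOfSurjective hπ).symm (P.val i)) = _
    rw [this]
    exact aeval_X xs i
  have hfX : ∀ i, f (xs i) = P.val i := fun i => by
    refine (Algebra.TensorProduct.lift_tmul _ _ _ _ _).trans ?_
    rw [map_one, one_mul]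
    show IsLocalization.Away.lift (S := S) J hJ (algebraMap A S _) = _
    rw [IsLocalization.Away.lift_eq]
    exact aeval_X P.val i
  have h₁ : f.comp g = AlgHom.id _ _ := by
    refine AlgHom.ext fun y => ?_
    obtain ⟨q, rfl⟩ := hπ y
    show ((f.comp g).comp π) q = π q
    congr 1
    exact MvPolynomial.algHom_ext fun i => by
      rw [AlgHom.comp_apply, AlgHom.comp_apply, show π (X i) = P.val i from aeval_X _ i, hgX, hfX]
  have h₂ : g.comp f = AlgHom.id _ _ := by
    refine Algebra.TensorProduct.ext (Subsingleton.elim _ _) ?_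
    refine IsLocalization.algHom_ext (Submonoid.powers J) (Ideal.Quotient.algHom_ext R ?_)
    refine MvPolynomial.algHom_ext fun i => ?_
    show g (f (xs i)) = xs i
    rw [hfX, hgX]
  exact ⟨S, inferInstance, inferInstance, inferInstance, ⟨AlgEquiv.ofAlgHom f g h₁ h₂⟩⟩

end GrothLib.EtaleLiftH2
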