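import Mathlib.RingTheory.Etale.StandardEtale
import Mathlib.RingTheory.LocalRing.ResidueField.Ideal
import Mathlib.RingTheory.Polynomial.ScaleRoots
import Mathlib.RingTheory.Localization.Integer
import Mathlib.FieldTheory.PrimitiveElement
import Mathlib.FieldTheory.Separable

/-!
# Étale algebras with a prescribed separable residue field extension
-/

universe u

namespace GrothLib.EtaleLiftH2

open Polynomial

/-- An étale algebra with a map onto a generating set of a finite separable extension of a residue
field. -/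
theorem exists_etale_generating (R : Type u) [CommRing R]
    (p : Ideal R) [p.IsPrime] (L : Type u) [Field L] [Algebra p.ResidueField L] [Algebra R L]
    [IsScalarTower R p.ResidueField L] [Module.Finite p.ResidueField L]
    [Algebra.IsSeparable p.ResidueField L] :
    ∃ (R' : Type u) (_ : CommRing R') (_ : Algebra R R') (_ : Algebra.Etale R R') (ψ : R' →ₐ[R] L),
      Subfield.closure (Set.range ψ) = ⊤ := by
  classical
  let κ := p.ResidueField
  obtain ⟨θ, hθ⟩ := Field.exists_primitive_element κ L
  let m := minpoly κ θ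
  have hmθ : aeval θ m = 0 := minpoly.aeval κ θ
  have hm : m.Monic := minpoly.monic (Algebra.IsIntegral.isIntegral θ)
  obtain ⟨b, hb⟩ := IsLocalization.exist_integer_multiples (nonZeroDivisors (R ⧸ p))
    (Finset.range m.natDegree) (fun i => m.coeff i)
  obtain ⟨t, ht⟩ := Ideal.Quotient.mk_surjective (b : R ⧸ p)
  let c : κ := algebraMap R κ t
  have hc0 : c ≠ 0 := fun h => nonZeroDivisors.coe_ne_zero b
    (ht ▸ Ideal.Quotient.eq_zero_iff_mem.2 (Ideal.algebraMap_residueField_eq_zero.1 h))
  let G := m.scaleRoots c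
  have hG : G.Monic := (monic_scaleRoots_iff c).2 hm
  have hlift : G ∈ lifts (algebraMap R κ) := by
    rw [lifts_iff_coeff_lifts]
    intro i
    show G.coeff i ∈ Set.range (algebraMap R κ)
    rw [coeff_scaleRoots]
    rcases lt_or_ge i m.natDegree with hi | hi
    · obtain ⟨a, ha⟩ := hb i (Finset.mem_range.2 hi)
      obtain ⟨a, rfl⟩ := Ideal.Quotient.mk_surjective a
      rw [Algebra.smul_def, ← ht, Ideal.algebraMap_quotient_residueField_mk,
        Ideal.algebraMap_quotient_residueField_mk] at ha
      refine ⟨a * t ^ (m.natDegree - i - 1), ?_⟩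
      rw [map_mul, map_pow, ha, mul_comm c (m.coeff i), mul_assoc, ← pow_succ',
        Nat.sub_add_cancel (by omega)]
    · rcases hi.eq_or_lt with rfl | hi
      · exact ⟨1, by rw [map_one, hm.coeff_natDegree, Nat.sub_self, pow_zero, mul_one]⟩
      · exact ⟨0, by rw [map_zero, coeff_eq_zero_of_natDegree_lt hi, zero_mul]⟩
  obtain ⟨F, hFmap, hFdeg, hF⟩ := lifts_and_natDegree_eq_and_monic hlift hG
  let θ' : L := algebraMap κ L c * θ
  have hc0' : algebraMap κ L c ≠ 0 := fun h => hc0 ((algebraMap κ L).injective (by rw [h, map_zero]))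
  have hθ' : IntermediateField.adjoin κ {θ'} = ⊤ := by
    rw [eq_top_iff, ← hθ, IntermediateField.adjoin_simple_le_iff]
    have h1 : θ' ∈ IntermediateField.adjoin κ ({θ'} : Set L) :=
      IntermediateField.mem_adjoin_simple_self κ θ'
    have h2 : θ = (algebraMap κ L c)⁻¹ * θ' := by
      rw [← mul_assoc, inv_mul_cancel₀ hc0', one_mul]
    rw [h2]
    exact mul_mem (inv_mem (IntermediateField.algebraMap_mem _ c)) h1
  have hG0 : aeval θ' G = 0 := scaleRoots_aeval_eq_zero hmθ
  have hGmin : minpoly κ θ' = G := by
    refine (Polynomial.eq_of_monic_of_dvd_of_natDegree_le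
      (minpoly.monic (Algebra.IsIntegral.isIntegral θ')) hG (minpoly.dvd κ θ' hG0) ?_).symm
    rw [natDegree_scaleRoots,
      ← IntermediateField.adjoin.finrank (Algebra.IsIntegral.isIntegral θ),
      ← IntermediateField.adjoin.finrank (Algebra.IsIntegral.isIntegral θ'), hθ, hθ']
  have hder : aeval θ' G.derivative ≠ 0 := by
    refine Polynomial.Separable.aeval_derivative_ne_zero ?_ hG0
    rw [← hGmin]
    exact Algebra.IsSeparable.isSeparable κ θ'
  let P : StandardEtalePair R :=
    { f := F, monic_f := hF, g := F.derivative, cond := ⟨1, 0, 1, by simp⟩ }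
  have hev : ∀ q : R[X], aeval θ' (q.map (algebraMap R κ)) = aeval θ' q := fun q =>
    aeval_map_algebraMap κ θ' q
  have hmap : P.HasMap θ' := by
    refine ⟨?_, isUnit_iff_ne_zero.2 ?_⟩
    · show aeval θ' F = 0
      rw [← hev, hFmap, hG0]
    · show aeval θ' F.derivative ≠ 0
      rw [← hev, ← derivative_map, hFmap]
      exact hder
  refine ⟨P.Ring, inferInstance, inferInstance, inferInstance, P.lift θ' hmap, ?_⟩
  rw [eq_top_iff]
  let Fc := Subfield.closure (Set.range (P.lift θ' hmap))
  have hR : ∀ a : R, algebraMap R L a ∈ Fc := fun a =>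
    Subfield.subset_closure ⟨algebraMap R P.Ring a, AlgHom.commutes _ a⟩
  have hκ : ∀ x : κ, algebraMap κ L x ∈ Fc := fun x => by
    obtain ⟨a, s, -, rfl⟩ := IsFractionRing.div_surjective (A := R ⧸ p) x
    obtain ⟨a, rfl⟩ := Ideal.Quotient.mk_surjective a
    obtain ⟨s, rfl⟩ := Ideal.Quotient.mk_surjective s
    rw [map_div₀, Ideal.algebraMap_quotient_residueField_mk,
      Ideal.algebraMap_quotient_residueField_mk, ← IsScalarTower.algebraMap_apply,
      ← IsScalarTower.algebraMap_apply]
    exact div_mem (hR a) (hR s)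
  intro x _
  let K : IntermediateField κ L := Fc.toIntermediateField hκ
  have hK : IntermediateField.adjoin κ ({θ'} : Set L) ≤ K := by
    rw [IntermediateField.adjoin_simple_le_iff]
    exact Subfield.subset_closure ⟨P.X, P.lift_X θ' hmap⟩
  exact hK (by rw [hθ']; exact IntermediateField.mem_top)

end GrothLib.EtaleLiftH2
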